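import Groth.Agent.RedSub.K195.DynRad
import Groth.Agent.Redsub.H673.RadDesc

/-!
# Base change of the dynamic decomposition of an immersed subgroup

* `Dec.bc`;
* `Dec.stabRad`: the unipotent part is a unipotent radical, stably under base change;
* `Dec.isNormalizerOf`: `Norm_H(L) = L`.
-/

set_option autoImplicit false
set_option linter.unusedSectionVars false

universe u

open CategoryTheory MonoidalCategory CartesianMonoidalCategory MonObj GrpObj AlgebraicGeometry
open Groth.Agent.Sga3B Groth.Agent.Sga3B.Parab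
open Groth.Agent.Sga3B.Parab.Dyn998 Groth.Agent.Sga3B.Parab.DynExist998
open Groth.Agent.Sga3B.Parab.DynBc998 Groth.Agent.Sga3B.Parab.DynLevi998
open Groth.Agent.Sga3B.Parab.ConjPt Groth.Agent.Sga3B.Parab.RadExist147

namespace K213.DecBc

open Groth.Agent Groth.Agent.Redsub.H673 K195.DynH

variable {S S' : Scheme.{u}} {G H L U : Over S} [GrpObj G] [GrpObj H] [GrpObj L] [GrpObj U]
  {i : H ⟶ G} {lam : Red.Gm S ⟶ H} {l : L ⟶ H} {u : U ⟶ H} {π : H ⟶ L}

omit [GrpObj U] [GrpObj L] in
lemma symm_comp (f : S' ⟶ S) {X : Over S'} (x : X ⟶ Red.bc f H) (j : H ⟶ G) :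
    (DSPts.bcEquiv f X G).symm (x ≫ (Over.pullback f).map j) = (DSPts.bcEquiv f X H).symm x ≫ j := by
  apply (DSPts.bcEquiv f X G).injective
  rw [MulEquiv.apply_symm_apply, ← DSPts.bcEquiv_comp, MulEquiv.apply_symm_apply]

/-- **Base change of the decomposition.** -/
theorem bc (d : Dec i lam l u π) (f : S' ⟶ S) :
    Dec ((Over.pullback f).map i) (bcLam lam f) ((Over.pullback f).map l) ((Over.pullback f).map u)
      ((Over.pullback f).map π) := by
  have h1 := d.lmon
  have h2 := d.umon
  have h3 := d.pmon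
  have h4 := d.lcl
  have h5 := d.ucl
  refine ⟨inferInstance, inferInstance, inferInstance, ?_, ?_, ?_, fun x => ?_, fun x => ?_, fun x => ?_⟩
  · exact MorphismProperty.of_isPullback (P := @IsClosedImmersion) (EtHom.isPullback_map f l) h4
  · exact MorphismProperty.of_isPullback (P := @IsClosedImmersion) (EtHom.isPullback_map f u) h5
  · rw [← Functor.map_comp, d.lp, CategoryTheory.Functor.map_id]
  · unfold Mem
    rw [exists_bc_iff]
    refine (d.memL _).trans ?_
    rw [← bcLam_comp, ptZ_bc_iff, symm_comp]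
  · unfold Mem
    rw [exists_bc_iff]
    refine (d.memU _).trans ?_
    rw [← bcLam_comp, ptU_bc_iff, symm_comp]
  · unfold Mem
    rw [exists_bc_iff]
    refine (d.ker _).trans ?_
    rw [← MulEquiv.map_eq_one_iff (DSPts.bcEquiv f _ L).symm, symm_comp]

end K213.DecBc
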