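import Groth.Agent.RedSub.K213.DecBc
import Groth.Agent.Redsub.H656.RedCent
import Groth.Agent.Sga3B.BorSpan613
import Groth.Agent.Sga3B.MaxTorNear900

/-!
# Consequences of the dynamic decomposition `H = L ⋉ U`

* `exists_fac`: reductive subgroups of `H` containing the cocharacter are contained in `L`;
* `isNormalizerOf`: `Norm_H(L) = L`;
* `isClosedImmersion`: `H` is closed in `G` if `L` and `U` are.
-/

set_option autoImplicit false
set_option linter.unusedSectionVars false

universe u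

open CategoryTheory MonoidalCategory CartesianMonoidalCategory MonObj GrpObj AlgebraicGeometry
open Groth.Agent.Sga3B Groth.Agent.Sga3B.Parab
open Groth.Agent.Sga3B.Parab.Dyn998 Groth.Agent.Sga3B.Parab.DynExist998
open Groth.Agent.Sga3B.Parab.DynBc998 Groth.Agent.Sga3B.Parab.DynLevi998
open Groth.Agent.Sga3B.Parab.ConjPt Groth.Agent.Sga3B.Parab.RadExist147

namespace K213.DecFac

open Groth.Agent Groth.Agent.Redsub Groth.Agent.Redsub.H673 Groth.Agent.Redsub.H656 K195.DynH

variable {S : Scheme.{u}} {G H L U K : Over S} [GrpObj G] [GrpObj H] [GrpObj L] [GrpObj U] [GrpObj K]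
  {i : H ⟶ G} {lam : Red.Gm S ⟶ H} {l : L ⟶ H} {u : U ⟶ H} {π : H ⟶ L}

/-- **Reductive subgroups containing the cocharacter are contained in `L`.** -/
theorem exists_fac (hG : IsAffineHom G.hom) (_hGs : Smooth G.hom) [IsMonHom i] [IsImmersion i.left] [IsMonHom lam]
    (d : Dec i lam l u π) (hP : PtP (lam ≫ i) i) (k : K ⟶ H) [IsMonHom k] (hk : IsImmersion k.left)
    (hK : Red.IsReductive K) (mu : Red.Gm S ⟶ K) (hmu : mu ≫ k = lam) : ∃ x : K ⟶ L, x ≫ l = k := by
  have him : Mono i := mono_imm i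
  have hkm : Mono k := Over.mono_of_mono_left k
  obtain ⟨P, _, p, hp, -⟩ := exists_isDynP (lam ≫ i)
  have hpm := hp.isMonHom
  have hpmono := hp.mono
  obtain ⟨j, hj⟩ := (hp.iff_ptP _ _).2 hP
  have hjm : IsMonHom j := by
    have : IsMonHom (j ≫ p) := by rw [hj]; infer_instance
    exact isMonHom_of_comp_mono (p := p)
  have hmum : IsMonHom mu := by
    have : IsMonHom (mu ≫ k) := by rw [hmu]; infer_instance
    exact isMonHom_of_comp_mono (p := k)
  have hkj : IsImmersion (k ≫ j).left := by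
    have h1 : IsImmersion ((k ≫ j).left ≫ p.left) := by
      rw [← Over.comp_left, Category.assoc, hj, Over.comp_left]
      infer_instance
    have h2 : IsImmersion p.left := by
      have := hp.isClosedImmersion
      infer_instance
    exact IsImmersion.of_comp (k ≫ j).left p.left
  have h1 := RedCent.ptZ_of_isReductive (lam ≫ i) hp (k ≫ j) hkj hK mu (by
    rw [Category.assoc, hj, ← Category.assoc, hmu])
  rw [Category.assoc, hj] at h1
  exact (d.memL k).2 h1

/-- The cocharacter is contained in `L`. -/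
lemma exists_lam [IsMonHom i] [IsMonHom lam] (d : Dec i lam l u π) : ∃ nu : Red.Gm S ⟶ L, nu ≫ l = lam := by
  refine (d.memL lam).2 ?_
  have h1 : PtZ (𝟙 (Red.Gm S)) (𝟙 (Red.Gm S)) := by
    intro C _ c x
    have hc : ∀ a b : gmo C c ⟶ Red.Gm S, a * b = b * a := fun a b => by
      exact MaxTorNear900.mul_comm_of_isTorus (BorSpan613.isTorus_Gm S) _ a b
    rw [OrbConst, orb, hc, ← _root_.mul_assoc, inv_mul_cancel, _root_.one_mul]
  have h2 := Func.ptZ_map (lam := 𝟙 (Red.Gm S)) (lam ≫ i) h1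
  rwa [Category.id_comp] at h2

/-- **`Norm_H(L) = L`.** -/
theorem isNormalizerOf [IsMonHom i] [IsMonHom lam] (d : Dec i lam l u π) [Mono i] : Red.IsNormalizerOf l l := by
  have hlm := d.lmon
  have hum := d.umon
  have hpm := d.pmon
  have hlmono := d.lmono
  have humono := d.umono
  obtain ⟨nu, hnu⟩ := exists_lam d
  obtain ⟨r, hr, -⟩ := d.exists_retr
  refine ⟨hlm, hlmono, fun X g => ⟨?_, fun hg => ?_⟩⟩
  · rintro ⟨z, rfl⟩ X' x y
    refine ⟨⟨(x ≫ z) * y * (x ≫ z)⁻¹, ?_⟩, ⟨(x ≫ z)⁻¹ * y * (x ≫ z), ?_⟩⟩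
    · simp only [MonObj.mul_comp, GrpObj.inv_comp, Category.assoc]
    · simp only [MonObj.mul_comp, GrpObj.inv_comp, Category.assoc]
  · -- the unipotent component
    let v : X ⟶ H := g ≫ r ≫ u
    have hv : v = (g ≫ π ≫ l)⁻¹ * g := by
      change g ≫ r ≫ u = _
      rw [hr, MonObj.comp_mul, GrpObj.comp_inv, Category.comp_id]
    have hv1 : v ≫ π = 1 := (d.ker v).1 ⟨g ≫ r, Category.assoc _ _ _⟩
    -- `v` centralises `L`
    have hcomm : ∀ (X' : Over S) (x : X' ⟶ X) (y : X' ⟶ L), (x ≫ v) * (y ≫ l) * (x ≫ v)⁻¹ = y ≫ l := by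
      intro X' x y
      obtain ⟨y', hy'⟩ := (hg X' x y).1
      have h1 : (x ≫ v) * (y ≫ l) * (x ≫ v)⁻¹ = ((x ≫ g ≫ π)⁻¹ * y' * (x ≫ g ≫ π)) ≫ l := by
        rw [hv, MonObj.mul_comp, MonObj.mul_comp, GrpObj.inv_comp, ← hy', MonObj.comp_mul, GrpObj.comp_inv]
        simp only [Category.assoc]
        group
      have h2 := congrArg (fun f => f ≫ π) h1
      simp only [MonObj.mul_comp, GrpObj.inv_comp, Category.assoc, d.lp, Category.comp_id, hv1, MonObj.comp_one,
        _root_.one_mul, inv_one, _root_.mul_one] at h2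
      rw [h1, MonObj.mul_comp, MonObj.mul_comp, GrpObj.inv_comp, h2]
      simp only [MonObj.mul_comp, GrpObj.inv_comp, Category.assoc]
    have hZ : PtZ (lam ≫ i) (v ≫ i) := by
      refine Func.ptZ_map i ?_
      intro C _ c x
      have h1 := hcomm (gmo C c) (gmPr C c ≫ x) (tPt C c ≫ nu)
      have h2 : (tPt C c ≫ lam) * (gmPr C c ≫ x ≫ v) = (gmPr C c ≫ x ≫ v) * (tPt C c ≫ lam) := by
        rw [← hnu]
        rw [mul_inv_eq_iff_eq_mul] at h1
        simpa only [Category.assoc] using h1.symm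
      rw [OrbConst, orb, h2, mul_inv_cancel_right]
    obtain ⟨z, hz⟩ := (d.memL v).2 hZ
    have h3 : z = 1 := by
      have := congrArg (fun f => f ≫ π) hz
      simpa only [Category.assoc, d.lp, Category.comp_id, hv1] using this
    refine ⟨g ≫ π, ?_⟩
    rw [h3, MonObj.one_comp] at hz
    rw [← hz, eq_comm, inv_mul_eq_one] at hv
    rw [Category.assoc]
    exact hv

end K213.DecFac
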