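import Groth.Agent.Sga3B.Parab.EtHom
import Mathlib.AlgebraicGeometry.Morphisms.UniversallyOpen
import Mathlib.AlgebraicGeometry.Morphisms.Immersion

/-!
# Closedness of quasi-compact immersions may be checked on a jointly surjective family of flat base changes

No quasi-compactness or openness of the family is required (local rings of the base are allowed).
-/

set_option autoImplicit false
universe u

open CategoryTheory AlgebraicGeometry Limits

namespace K213.FlatClosed

open Groth.Agent.Sga3B.Parab

/-- **Closedness of a quasi-compact immersion from flat base changes.** -/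
theorem isClosedImmersion_of_flat {S : Scheme.{u}} {X Y : Over S} (i : X ⟶ Y) [IsImmersion i.left]
    [QuasiCompact i.left]
    (h : ∀ s : S, ∃ (C : Scheme.{u}) (c : C ⟶ S) (_ : Flat c), s ∈ Set.range c ∧
      IsClosedImmersion ((Over.pullback c).map i).left) : IsClosedImmersion i.left := by
  have hcl : IsClosedMap i.left := by
    rw [isClosedMap_iff_specializingMap]
    intro x y hy
    obtain ⟨C, c, hc, ⟨c₀, hc₀⟩, hcl⟩ := h (Y.hom y)
    let pY : pullback Y.hom c ⟶ Y.left := pullback.fst Y.hom c
    have hpY : Flat pY := inferInstanceAs (Flat (pullback.fst Y.hom c))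
    obtain ⟨y', hy', -⟩ := Scheme.Pullback.exists_preimage_pullback (f := Y.hom) (g := c) y c₀ hc₀.symm
    obtain ⟨x', hx', hx''⟩ := (Flat.generalizingMap pY) (a := y') (b := i.left x) (by
      change i.left x ⤳ pY y'
      rw [show pY y' = y from hy']
      exact hy)
    have sq := EtHom.isPullback_map c i
    obtain ⟨z, hz1, hz2⟩ : ∃ z, EtHom.pr c X z = x ∧ ((Over.pullback c).map i).left z = x' := by
      obtain ⟨z, hz1, hz2⟩ := Scheme.Pullback.exists_preimage_pullback (f := i.left) (g := EtHom.pr c Y) x x' (by
        exact hx''.symm)
      refine ⟨sq.isoPullback.inv z, ?_, ?_⟩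
      · rw [← Scheme.Hom.comp_apply, sq.isoPullback_inv_fst]
        exact hz1
      · rw [← Scheme.Hom.comp_apply, sq.isoPullback_inv_snd]
        exact hz2
    have h1 : IsClosedMap ((Over.pullback c).map i).left := ((Over.pullback c).map i).left.isClosedEmbedding.isClosedMap
    have h2 := h1.specializingMap
    obtain ⟨w, hw, hw'⟩ := h2 (a := z) (b := y') (by
      change ((Over.pullback c).map i).left z ⤳ y'
      rw [hz2]
      exact hx')
    refine ⟨EtHom.pr c X w, ?_, ?_⟩
    · rw [← hz1]
      exact hw.map (EtHom.pr c X).continuous
    · have h4 : i.left (EtHom.pr c X w) = EtHom.pr c Y (((Over.pullback c).map i).left w) := by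
        rw [← Scheme.Hom.comp_apply, sq.w, Scheme.Hom.comp_apply]
      rw [h4, hw']
      exact hy'
  exact IsClosedImmersion.of_isPreimmersion i.left (by
    have := hcl Set.univ isClosed_univ
    rwa [Set.image_univ] at this)

end K213.FlatClosed
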