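import Groth.Agent.RedSub.K213.DecFac
import Groth.Agent.RedSub.H641.TypeRBc
import Groth.Agent.Redsub.H656.LeviUniq

/-!
# Levi subgroups of subgroups of type (RC): gluing

`Dat h t f`: over `f : S' ⟶ S`, a cocharacter `λ` of `T` with `H ⊆ P_G(λ)`, `L = H ∩ Z_G(λ)` reductive and
`U = H ∩ U_G(λ)` closed in `G`.

* `Dat.isClosedImmersion`: `H_{S'}` is closed in `G_{S'}`;
* `main`: if such data exist étale-locally then `H` has a Levi subgroup `L ⊇ T`, which contains all reductive subgroups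
  of `H` containing `T`, and `Norm_H(L) = L`.
-/

set_option autoImplicit false
set_option linter.unusedSectionVars false

universe u

open CategoryTheory MonoidalCategory CartesianMonoidalCategory MonObj GrpObj AlgebraicGeometry
open Groth.Agent.Sga3B Groth.Agent.Sga3B.Parab
open Groth.Agent.Sga3B.Parab.Dyn998 Groth.Agent.Sga3B.Parab.DynExist998
open Groth.Agent.Sga3B.Parab.DynBc998 Groth.Agent.Sga3B.Parab.DynLevi998
open Groth.Agent.Sga3B.Parab.ConjPt Groth.Agent.Sga3B.Parab.RadExist147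
open Groth.Agent.Sga3B.Parab.RedCover147 Groth.Agent.Sga3B.Parab.GeomFib147 Groth.Agent.Sga3B.Parab.GlueSub172

namespace K213.Glob

open Groth.Agent Groth.Agent.Redsub Groth.Agent.Redsub.H673 Groth.Agent.Redsub.H656 K195.DynH

variable {S : Scheme.{u}} {G H T : Over S} [GrpObj G] [GrpObj H] [GrpObj T]

/-- The local data. -/
structure Dat (h : H ⟶ G) (t : T ⟶ H) {S' : Scheme.{u}} (f : S' ⟶ S) where
  /-- the cocharacter -/
  lam : Red.Gm S' ⟶ Red.bc f T
  monHom : IsMonHom lam
  comm : ∀ (X : Over S') (a b : X ⟶ Red.bc f T), a * b = b * a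
  /-- the Levi subgroup -/
  L : Over S'
  /-- the unipotent radical -/
  U : Over S'
  grpL : GrpObj L
  grpU : GrpObj U
  /-- the inclusion of the Levi subgroup -/
  l : L ⟶ Red.bc f H
  /-- the inclusion of the unipotent radical -/
  u : U ⟶ Red.bc f H
  /-- the retraction -/
  π : Red.bc f H ⟶ L
  dec : Dec ((Over.pullback f).map h) (lam ≫ (Over.pullback f).map t) l u π
  ptP : PtP ((lam ≫ (Over.pullback f).map t) ≫ (Over.pullback f).map h) ((Over.pullback f).map h)
  red : Red.IsReductive L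
  ucl : IsClosedImmersion (u ≫ (Over.pullback f).map h).left

attribute [instance] Dat.monHom Dat.grpL Dat.grpU

variable {h : H ⟶ G} {t : T ⟶ H} {S' : Scheme.{u}} {f : S' ⟶ S}

namespace Dat

/-- `T` is contained in `L`. -/
lemma exists_t [IsMonHom h] [IsMonHom t] (D : Dat h t f) : ∃ τ : Red.bc f T ⟶ D.L, τ ≫ D.l = (Over.pullback f).map t := by
  refine (D.dec.memL _).2 ?_
  have h1 : PtZ D.lam (𝟙 (Red.bc f T)) := by
    intro C _ c x
    rw [OrbConst, orb, D.comm, ← _root_.mul_assoc, inv_mul_cancel, _root_.one_mul]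
  have h2 := Func.ptZ_map (lam := D.lam) ((Over.pullback f).map t ≫ (Over.pullback f).map h) h1
  rwa [Category.id_comp, ← Category.assoc] at h2

end Dat

/-- `H ⊆ P_G(λ)` after base change. -/
lemma ptP_bc {lam : Red.Gm S ⟶ G} {i : H ⟶ G} (hP : PtP lam i) (f : S' ⟶ S) :
    PtP (bcLam lam f) ((Over.pullback f).map i) := by
  rw [ptP_bc_iff]
  have h1 := DecBc.symm_comp f (𝟙 (Red.bc f H)) i
  rw [Category.id_comp] at h1
  rw [h1]
  exact hP.comp _

section Local

variable {L U : Over S} [GrpObj L] [GrpObj U] {i : H ⟶ G} {lam : Red.Gm S ⟶ H} {l : L ⟶ H} {u : U ⟶ H} {π : H ⟶ L}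

lemma isAffineHom_of_closed {X Y : Over S} (f : X ⟶ Y) (hf : IsClosedImmersion f.left) (hY : IsAffineHom Y.hom) :
    IsAffineHom X.hom := by
  rw [← Over.w f]
  infer_instance

/-- The unipotent part is a unipotent radical, stably. -/
theorem stabRad (hG : IsAffineHom G.hom) (hGs : Smooth G.hom) [IsMonHom i] [IsImmersion i.left] [IsMonHom lam]
    [Smooth H.hom] [QuasiCompact H.hom] (hconn : _root_.RedSub.HasConnectedFibres H) (d : Dec i lam l u π)
    (hL : Red.IsReductive L) (hU : IsAffineHom U.hom) : RadDesc.StabRad u := by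
  have hr := d.isUnipotentRadical hconn hL hU
  refine ⟨d.umon, isUnipNormal_of_isUnipotentRadical hr, fun W _ w _ hw => ?_, fun f _ W _ w _ hw => ?_⟩
  · exact hr.2.2.2.2.2.2 W w hw.closed hw.normal hw.smooth hw.qc hw.fib
  · have hq := Desc.LQF.of_etale f
    have e1 : IsAffineHom (Red.bc f G).hom := MorphismProperty.pullback_snd (P := @IsAffineHom) _ _ hG
    have e2 : Smooth (Red.bc f G).hom := inferInstanceAs (Smooth (Limits.pullback.snd _ _))
    have e3 : Smooth (Red.bc f H).hom := inferInstanceAs (Smooth (Limits.pullback.snd _ _))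
    have e4 : QuasiCompact (Red.bc f H).hom := inferInstanceAs (QuasiCompact (Limits.pullback.snd _ _))
    have e5 : IsImmersion ((Over.pullback f).map i).left :=
      MorphismProperty.of_isPullback (P := @IsImmersion) (EtHom.isPullback_map f i) ‹_›
    have hr' := (DecBc.bc d f).isUnipotentRadical (RedSub.H648.TypeR.hasConnectedFibres_bc f hconn)
      (isReductive_bc f hL) (MorphismProperty.pullback_snd (P := @IsAffineHom) _ _ hU)
    exact hr'.2.2.2.2.2.2 W w hw.closed hw.normal hw.smooth hw.qc hw.fib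

/-- **`H` is closed in `G`.** -/
theorem isClosedImmersion (hG : IsAffineHom G.hom) (_hGs : Smooth G.hom) [IsMonHom i] [IsImmersion i.left]
    [IsMonHom lam] (d : Dec i lam l u π) (_hP : PtP (lam ≫ i) i) (hl : IsClosedImmersion (l ≫ i).left)
    (hu : IsClosedImmersion (u ≫ i).left) : IsClosedImmersion i.left := by
  have hlm := d.lmon
  have hum := d.umon
  obtain ⟨P, _, p, hp, -⟩ := exists_isDynP (lam ≫ i)
  have hpm := hp.isMonHom
  have hpmono := hp.mono
  have hpcl := hp.isClosedImmersion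
  obtain ⟨Z₀, _, z₀, hz₀, hz₀cl⟩ := exists_isDynZ (lam ≫ i)
  obtain ⟨z, hz⟩ := exists_zP hp hz₀
  obtain ⟨U₀, _, u₀, hu₀, hu₀cl⟩ := exists_isDynU (lam ≫ i)
  obtain ⟨v, hv⟩ := exists_uP hp hu₀
  have hz' : IsDynZ (lam ≫ i) (z ≫ p) := by
    rw [hz]
    exact hz₀
  have hv' : IsDynU (lam ≫ i) (v ≫ p) := by
    rw [hv]
    exact hu₀
  have hiso := isIso_levi hp hz' hv'
  obtain ⟨a, ha⟩ := (hz'.iff_ptZ _ _).2 ((d.memL l).1 ⟨𝟙 _, Category.id_comp _⟩)
  obtain ⟨b, hb⟩ := (hv'.iff_ptU _ _).2 ((d.memU u).1 ⟨𝟙 _, Category.id_comp _⟩)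
  have hacl : IsClosedImmersion a.left := by
    have h1 : IsClosedImmersion (a.left ≫ (z ≫ p).left) := by
      rw [← Over.comp_left, ha]
      exact hl
    have h2 : IsSeparated (z ≫ p).left := by
      have := hz'.isClosedImmersion
      infer_instance
    exact IsClosedImmersion.of_comp a.left (z ≫ p).left
  have hbcl : IsClosedImmersion b.left := by
    have h1 : IsClosedImmersion (b.left ≫ (v ≫ p).left) := by
      rw [← Over.comp_left, hb]
      exact hu
    have h2 : IsSeparated (v ≫ p).left := by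
      have := hv'.isClosedImmersion
      infer_instance
    exact IsClosedImmersion.of_comp b.left (v ≫ p).left
  have hab : IsClosedImmersion (a ⊗ₘ b).left := by
    rw [Over.tensorHom_left]
    exact MorphismProperty.pullbackMap (P := @IsClosedImmersion) hacl hbcl (Over.w a).symm (Over.w b).symm
  have key : ((l ⊗ₘ u) ≫ μ[H]) ≫ i = (a ⊗ₘ b) ≫ ((z ⊗ₘ v) ≫ μ[P]) ≫ p := by
    have e1 : (l ⊗ₘ u) ≫ μ[H] = (fst _ _ ≫ l) * (snd _ _ ≫ u) := by
      rw [Hom.mul_def, ← lift_map, lift_fst_snd, Category.id_comp]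
    have e2 : (z ⊗ₘ v) ≫ μ[P] = (fst _ _ ≫ z) * (snd _ _ ≫ v) := by
      rw [Hom.mul_def, ← lift_map, lift_fst_snd, Category.id_comp]
    rw [e1, e2, MonObj.mul_comp, MonObj.mul_comp, MonObj.comp_mul]
    simp only [Category.assoc]
    rw [← ha, ← hb, tensorHom_fst_assoc, tensorHom_snd_assoc]
  have h1 := d.isIso_mul
  have h2 : i = inv ((l ⊗ₘ u) ≫ μ[H]) ≫ (a ⊗ₘ b) ≫ ((z ⊗ₘ v) ≫ μ[P]) ≫ p := by
    rw [← key, IsIso.inv_hom_id_assoc]
  have h3 : IsIso (inv ((l ⊗ₘ u) ≫ μ[H])).left :=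
    inferInstanceAs (IsIso ((Over.forget S).map (inv ((l ⊗ₘ u) ≫ μ[H]))))
  have h4 : IsIso ((z ⊗ₘ v) ≫ μ[P]).left :=
    inferInstanceAs (IsIso ((Over.forget S).map ((z ⊗ₘ v) ≫ μ[P])))
  rw [h2, Over.comp_left, Over.comp_left, Over.comp_left]
  infer_instance

end Local

end K213.Glob
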