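import Groth.Agent.RedSub.K213.Glob

/-!
# Gluing of the Levi subgroups of subgroups of type (RC)
-/

set_option autoImplicit false
set_option linter.unusedSectionVars false

universe u

open CategoryTheory MonoidalCategory CartesianMonoidalCategory MonObj GrpObj AlgebraicGeometry
open Groth.Agent.Sga3B Groth.Agent.Sga3B.Parab
open Groth.Agent.Sga3B.Parab.Dyn998 Groth.Agent.Sga3B.Parab.DynExist998
open Groth.Agent.Sga3B.Parab.DynBc998 Groth.Agent.Sga3B.Parab.DynLevi998
open Groth.Agent.Sga3B.Parab.ConjPt Groth.Agent.Sga3B.Parab.RadExist147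
open Groth.Agent.Sga3B.Parab.RedCover147 Groth.Agent.Sga3B.Parab.GeomFib147 Groth.Agent.Sga3B.Parab.GlueSub172

namespace K213.Glob

open Groth.Agent Groth.Agent.Redsub Groth.Agent.Redsub.H673 Groth.Agent.Redsub.H656 K195.DynH

variable {S : Scheme.{u}} {G H T : Over S} [GrpObj G] [GrpObj H] [GrpObj T] {h : H ⟶ G} {t : T ⟶ H}

/-- The local Levi subgroups agree. -/
theorem agree [IsMonHom h] [IsImmersion h.left] [IsMonHom t] (hG : Red.IsReductive G)
    {S₁ S₂ : Scheme.{u}} {f₁ : S₁ ⟶ S} {f₂ : S₂ ⟶ S} [Etale f₁] [Etale f₂]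
    (D₁ : Dat h t f₁) (D₂ : Dat h t f₂)
    {Z : Over S} (g : Z ⟶ H) (w₁ : Z ⟶ Over.mk f₁) (w₂ : Z ⟶ Over.mk f₂)
    (hg : Mem (qt f₁ D₁.l) (lift g w₁)) : Mem (qt f₂ D₂.l) (lift g w₂) := by
  have sq : IsPullback (Limits.pullback.fst f₁ f₂) (Limits.pullback.snd f₁ f₂) f₁ f₂ :=
    IsPullback.of_hasPullback f₁ f₂
  have ha : Etale (Limits.pullback.fst f₁ f₂) := inferInstance
  have hb : Etale (Limits.pullback.snd f₁ f₂) := inferInstance
  generalize Limits.pullback.fst f₁ f₂ = a at sq ha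
  generalize Limits.pullback.snd f₁ f₂ = b at sq hb
  have hl₁ := D₁.dec.lmon
  have hl₁cl := D₁.dec.lcl
  have hl₁mono := D₁.dec.lmono
  have hqa := Desc.LQF.of_etale a
  have hqb := Desc.LQF.of_etale b
  have hq2 := Desc.LQF.of_etale f₂
  have hGb := (isReductive_bc b (isReductive_bc f₂ hG))
  have hsT : IsMonHom (sqIso sq.w T).inv.hom.hom := (sqIso sq.w T).inv.hom.isMonHom_hom
  have hsH : IsMonHom (sqIso sq.w H).hom.hom.hom := (sqIso sq.w H).hom.hom.isMonHom_hom
  have hi2 : IsImmersion ((Over.pullback f₂).map h).left :=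
    MorphismProperty.of_isPullback (P := @IsImmersion) (EtHom.isPullback_map f₂ h) ‹_›
  have hib : IsImmersion ((Over.pullback b).map ((Over.pullback f₂).map h)).left :=
    MorphismProperty.of_isPullback (P := @IsImmersion) (EtHom.isPullback_map b ((Over.pullback f₂).map h)) hi2
  obtain ⟨τ, hτ⟩ := D₁.exists_t
  let k : Red.bc a D₁.L ⟶ Red.bc b (Red.bc f₂ H) :=
    (Over.pullback a).map D₁.l ≫ (sqIso sq.w H).hom.hom.hom
  have hkm : IsMonHom k := by
    change IsMonHom ((Over.pullback a).map D₁.l ≫ (sqIso sq.w H).hom.hom.hom)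
    infer_instance
  have hkl : IsImmersion k.left := by
    have h1 : IsClosedImmersion ((Over.pullback a).map D₁.l).left := isClosedImmersion_bc a hl₁cl
    have h2 : IsIso (sqIso sq.w H).hom.hom.hom.left :=
      inferInstanceAs (IsIso ((Over.forget _).map (sqIso sq.w H).hom.hom.hom))
    change IsImmersion ((Over.pullback a).map D₁.l ≫ (sqIso sq.w H).hom.hom.hom).left
    rw [Over.comp_left]
    infer_instance
  let mu : Red.Gm _ ⟶ Red.bc a D₁.L :=
    bcLam D₂.lam b ≫ (sqIso sq.w T).inv.hom.hom ≫ (Over.pullback a).map τ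
  have hmu : mu ≫ k = bcLam (D₂.lam ≫ (Over.pullback f₂).map t) b := by
    have h3 := sqIso_natural sq.w t
    have h4 : (sqIso sq.w T).inv.hom.hom ≫ (sqIso sq.w T).hom.hom.hom = 𝟙 _ :=
      GeomBC147.inv_hom (sqIso sq.w T)
    have h5 : (sqIso sq.w T).inv.hom.hom ≫ (Over.pullback a).map τ ≫ k =
        (Over.pullback b).map ((Over.pullback f₂).map t) := by
      change (sqIso sq.w T).inv.hom.hom ≫ (Over.pullback a).map τ ≫ (Over.pullback a).map D₁.l ≫
        (sqIso sq.w H).hom.hom.hom = _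
      rw [← Functor.map_comp_assoc, hτ, ← h3, ← Category.assoc, h4, Category.id_comp]
    change (bcLam D₂.lam b ≫ (sqIso sq.w T).inv.hom.hom ≫ (Over.pullback a).map τ) ≫ k = _
    simp only [Category.assoc]
    rw [bcLam_comp, h5]
  have hK : Red.IsReductive (Red.bc a D₁.L) := isReductive_bc a D₁.red
  have hP := ptP_bc D₂.ptP b
  rw [bcLam_comp] at hP
  obtain ⟨x, hx⟩ := DecFac.exists_fac hGb.1 hGb.2.1 (DecBc.bc D₂.dec b) hP k hkl hK mu hmu
  exact mem_of_iso sq D₁.l D₂.l x hx g w₁ w₂ hg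

/-- Factorisation of `H`-points normalising `L`. -/
theorem norm_of_cover {L : Over S} [GrpObj L] {l : L ⟶ H} [IsMonHom l] [Mono l] {J : Type u} {S' : J → Scheme.{u}}
    {f : ∀ i, S' i ⟶ S} (hf : IsEtCov f)
    (hn : ∀ i, Red.IsNormalizerOf ((Over.pullback (f i)).map l) ((Over.pullback (f i)).map l)) :
    Red.IsNormalizerOf l l := by
  refine ⟨inferInstance, inferInstance, fun X g => ⟨?_, fun hg => ?_⟩⟩
  · rintro ⟨z, rfl⟩ X' x y
    refine ⟨⟨(x ≫ z) * y * (x ≫ z)⁻¹, ?_⟩, ⟨(x ≫ z)⁻¹ * y * (x ≫ z), ?_⟩⟩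
    · simp only [MonObj.mul_comp, GrpObj.inv_comp, Category.assoc]
    · simp only [MonObj.mul_comp, GrpObj.inv_comp, Category.assoc]
  · refine LevZar763.exists_factor_of_cover hf g fun i => ?_
    refine ((hn i).2.2 _ _).2 fun X' x y => ?_
    -- the points over `S`
    let x' : (Over.map (f i)).obj X' ⟶ X := ((Over.mapPullbackAdj (f i)).homEquiv X' X).symm x
    let y' : (Over.map (f i)).obj X' ⟶ L := (DSPts.bcEquiv (f i) X' L).symm y
    have e1 : x ≫ (Over.pullback (f i)).map g = DSPts.bcEquiv (f i) X' H (x' ≫ g) := by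
      have h1 : x = (Over.mapPullbackAdj (f i)).homEquiv X' X x' := (Equiv.apply_symm_apply _ _).symm
      rw [h1]
      exact ((Over.mapPullbackAdj (f i)).homEquiv_naturality_right x' g).symm
    have e2 : y ≫ (Over.pullback (f i)).map l = DSPts.bcEquiv (f i) X' H (y' ≫ l) := by
      rw [← DSPts.bcEquiv_comp, MulEquiv.apply_symm_apply]
    obtain ⟨⟨a, ha⟩, ⟨b, hb⟩⟩ := hg _ x' y'
    refine ⟨⟨DSPts.bcEquiv (f i) X' L a, ?_⟩, ⟨DSPts.bcEquiv (f i) X' L b, ?_⟩⟩
    · rw [e1, e2, ← map_mul, ← map_inv, ← map_mul, ha, DSPts.bcEquiv_comp]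
    · rw [e1, e2, ← map_inv, ← map_mul, ← map_mul, hb, DSPts.bcEquiv_comp]

lemma isNormalizerOf_of_iso {L L' : Over S} [GrpObj L] [GrpObj L'] {l : L ⟶ H} {l' : L' ⟶ H} [IsMonHom l']
    (e : L' ≅ L) (he : e.hom ≫ l = l') (hn : Red.IsNormalizerOf l l) : Red.IsNormalizerOf l' l' := by
  have hl := hn.2.1
  have key : ∀ {X : Over S} (g : X ⟶ H), (∃ z : X ⟶ L', z ≫ l' = g) ↔ ∃ z : X ⟶ L, z ≫ l = g := by
    intro X g
    constructor
    · rintro ⟨z, rfl⟩
      exact ⟨z ≫ e.hom, by rw [Category.assoc, he]⟩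
    · rintro ⟨z, rfl⟩
      exact ⟨z ≫ e.inv, by rw [← he, Category.assoc, Iso.inv_hom_id_assoc]⟩
  have key' : ∀ {X : Over S} (g : X ⟶ H), (∃ z : X ⟶ L', g = z ≫ l') ↔ ∃ z : X ⟶ L, g = z ≫ l := by
    intro X g
    simpa only [eq_comm] using key g
  refine ⟨inferInstance, by rw [← he]; infer_instance, fun X g => ?_⟩
  rw [key, hn.2.2]
  constructor
  · intro hg X' x y
    rw [key', key', ← he, ← Category.assoc y]
    exact hg X' x (y ≫ e.hom)
  · intro hg X' x y
    have h1 := hg X' x (y ≫ e.inv)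
    rw [key', key', ← he, Category.assoc, Iso.inv_hom_id_assoc] at h1
    exact h1

/-- **Levi subgroups of subgroups of type (RC).** -/
theorem main (hG : Red.IsReductive G) (hH : _root_.RedSub.IsTypeR h) [IsMonHom t]
    (hloc : ∀ s : S, ∃ (S' : Scheme.{u}) (f : S' ⟶ S), Etale f ∧ s ∈ Set.range f ∧ Nonempty (Dat h t f)) :
    ∃ (L : Over S) (_ : GrpObj L) (l : L ⟶ H) (tL : T ⟶ L), Par.IsLevi l ∧ tL ≫ l = t ∧
      (∀ (L' : Over S) [GrpObj L'] (l' : L' ⟶ H) (tL' : T ⟶ L'), _root_.RedSub.IsSubgrp l' → Red.IsReductive L' →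
        tL' ≫ l' = t → ∃ g : L' ⟶ L, g ≫ l = l') ∧
      Red.IsNormalizerOf l l := by
  have h1 := hH.1.1
  have h2 := hH.1.2
  have h3 := hH.2.1
  have h4 := hH.2.2.1
  have h5 := hH.2.2.2.1
  obtain ⟨J, S', f, he, hcov, hQ⟩ := exists_isEtCov (Q := fun S' f => Nonempty (Dat h t f)) hloc
  have D : ∀ i, Dat h t (f i) := fun i => (hQ i).some
  have hqf := hcov.qf
  have hGa : ∀ i, IsAffineHom (Red.bc (f i) G).hom := fun i => (isReductive_bc (f i) hG).1
  have hGs : ∀ i, Smooth (Red.bc (f i) G).hom := fun i => (isReductive_bc (f i) hG).2.1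
  have hHs : ∀ i, Smooth (Red.bc (f i) H).hom := fun i => inferInstanceAs (Smooth (Limits.pullback.snd _ _))
  have hHq : ∀ i, QuasiCompact (Red.bc (f i) H).hom := fun i =>
    inferInstanceAs (QuasiCompact (Limits.pullback.snd _ _))
  have hhi : ∀ i, IsImmersion ((Over.pullback (f i)).map h).left := fun i =>
    MorphismProperty.of_isPullback (P := @IsImmersion) (EtHom.isPullback_map (f i) h) h2
  have hhm : ∀ i, Mono ((Over.pullback (f i)).map h) := fun i => mono_imm _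
  have hUa : ∀ i, IsAffineHom (D i).U.hom := fun i => isAffineHom_of_closed _ (D i).ucl (hGa i)
  have hstab : ∀ i, RadDesc.StabRad (D i).u := fun i =>
    stabRad (hGa i) (hGs i) (RedSub.H648.TypeR.hasConnectedFibres_bc (f i) h5) (D i).dec (D i).red (hUa i)
  obtain ⟨L, _, l, hlm, hlcl, hle⟩ := exists_glue (G := H) (q := fun i => (D i).l) hcov.cov
    (fun i => (D i).dec.lmon) (fun i => (D i).dec.lcl) (fun i j Z g w w' hg => agree hG (D i) (D j) g w w' hg)
  have hlmono : Mono l := Over.mono_of_mono_left l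
  -- the unipotent radical
  obtain ⟨V, _, v, hv, hVmem⟩ := RadDesc.exists_rad_of_local (H := H) (fun s => by
    obtain ⟨i, hi⟩ := hcov.cov.surj s
    exact ⟨S' i, f i, (D i).U, inferInstance, (D i).u, he i, hi, hstab i⟩)
  have hvm := hv.1
  have hvcl := hv.2.1
  have hvmono : Mono v := Over.mono_of_mono_left v
  have hue : ∀ i, ∃ e : (D i).U ≅ Red.bc (f i) V, e.hom ≫ (Over.pullback (f i)).map v = (D i).u := by
    intro i
    have hum := (D i).dec.umono
    obtain ⟨a, ha⟩ := (hVmem _ (f i) (he i) (D i).U inferInstance (D i).u (hstab i) _ _).1 ⟨𝟙 _, Category.id_comp _⟩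
    obtain ⟨b, hb⟩ := (hVmem _ (f i) (he i) (D i).U inferInstance (D i).u (hstab i) _ _).2 ⟨𝟙 _, Category.id_comp _⟩
    refine ⟨⟨a, b, ?_, ?_⟩, ha⟩
    · rw [← cancel_mono (D i).u, Category.assoc, hb, ha, Category.id_comp]
    · rw [← cancel_mono ((Over.pullback (f i)).map v), Category.assoc, ha, hb, Category.id_comp]
  have hiso : IsIso ((l ⊗ₘ v) ≫ μ[H]) := by
    refine LevZar763.isIso_mul_of_cover hcov fun i => ?_
    obtain ⟨e, he⟩ := hle i
    obtain ⟨e', he'⟩ := hue i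
    have h6 := (D i).dec.isIso_mul
    have h7 : ((Over.pullback (f i)).map l ⊗ₘ (Over.pullback (f i)).map v) ≫ μ[Red.bc (f i) H] =
        (e.hom ⊗ₘ e'.inv) ≫ ((D i).l ⊗ₘ (D i).u) ≫ μ[Red.bc (f i) H] := by
      rw [tensorHom_comp_tensorHom_assoc, he, ← he', Iso.inv_hom_id_assoc]
    rw [h7]
    infer_instance
  have hred : Red.IsReductive L := isReductive_of_cover hcov fun i => by
    obtain ⟨e, he⟩ := hle i
    have hlm' := (D i).dec.lmon
    have hlmo := (D i).dec.lmono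
    have hem : IsMonHom e.hom := by
      have : IsMonHom (e.hom ≫ (D i).l) := by rw [he]; infer_instance
      exact DynLevi998.isMonHom_of_comp_mono (p := (D i).l)
    exact AlgBc.isReductive_of_iso (Grp.mkIso' e).symm (D i).red
  have hfac : ∀ (K : Over S) [GrpObj K] (k : K ⟶ H) (tk : T ⟶ K),
      _root_.RedSub.IsSubgrp k → Red.IsReductive K → tk ≫ k = t → ∃ m : K ⟶ L, m ≫ l = k := by
    intro K _ k tk hk hK htk
    have hkm := hk.1
    have hki := hk.2
    refine LevZar763.exists_factor_of_cover hcov k fun i => ?_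
    obtain ⟨x, hx⟩ := DecFac.exists_fac (hGa i) (hGs i) (D i).dec (D i).ptP ((Over.pullback (f i)).map k)
      (MorphismProperty.of_isPullback (P := @IsImmersion) (EtHom.isPullback_map (f i) k) hki)
      (isReductive_bc (f i) hK) ((D i).lam ≫ (Over.pullback (f i)).map tk) (by
        rw [Category.assoc, ← Functor.map_comp, htk])
    obtain ⟨e, he⟩ := hle i
    exact ⟨x ≫ e.inv, by rw [← he, Category.assoc, Iso.inv_hom_id_assoc, hx]⟩
  obtain ⟨tl, htl⟩ : ∃ tl : T ⟶ L, tl ≫ l = t := by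
    refine LevZar763.exists_factor_of_cover hcov t fun i => ?_
    obtain ⟨e, he⟩ := hle i
    obtain ⟨τ, hτ⟩ := (D i).exists_t
    exact ⟨τ ≫ e.inv, by rw [← he, Category.assoc, Iso.inv_hom_id_assoc, hτ]⟩
  refine ⟨L, inferInstance, l, tl, ⟨hlm, hlmono, hred, V, inferInstance, v, hv, hiso⟩, htl, hfac, ?_⟩
  refine norm_of_cover hcov fun i => ?_
  obtain ⟨e, he⟩ := hle i
  exact isNormalizerOf_of_iso e he (DecFac.isNormalizerOf (D i).dec)

end K213.Glob
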