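import Groth.Agent.RedSub.K213.DecFac
import Groth.Agent.RedSub.K195.Levi
import Groth.Agent.S5529
import Groth.Agent.S4127

/-!
# The Levi and unipotent parts of a subgroup of type (R) with closed root set are closed in `G` (connected base)
-/

set_option autoImplicit false
set_option linter.unusedSectionVars false

universe u

open CategoryTheory MonoidalCategory CartesianMonoidalCategory MonObj GrpObj AlgebraicGeometry
open Groth.Agent.Sga3B Groth.Agent.Sga3B.Parab
open Groth.Agent.Sga3B.Parab.Dyn998 Groth.Agent.Sga3B.Parab.DynExist998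
open Groth.Agent.Sga3B.Parab.DynBc998 Groth.Agent.Sga3B.Parab.DynLevi998
open Groth.Agent.Sga3B.Parab.ConjPt Groth.Agent.Sga3B.Parab.RadExist147
open Groth.Agent.Sga3B.BorRP478 Groth.Agent.Sga3B.DSPts Groth.Agent.Sga3B.GaPts
open Groth.Agent.RedSub.H633.PowPts

namespace K213.LocConn

open Groth.Agent Groth.Agent.RedSub K195 K195.DynH K195.TypeRDec K195.TypeRCell K195.ProdIso

variable {S : Scheme.{u}} [ConnectedSpace S] {G H L U : Over S} [GrpObj G] [GrpObj H] [GrpObj L] [GrpObj U]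
  {D : Red.SplitRed G} {mu : D.M →+ ℤ} {h : H ⟶ G} {t : D.T ⟶ H} {l : L ⟶ H} {u : U ⟶ H} {π : H ⟶ L}

/-- A monomorphism from a reductive group to an affine smooth group is a closed immersion. -/
lemma isClosedImmersion_of_isReductive {S : Scheme.{u}} {G L : Over S} [GrpObj G] [GrpObj L] (hG : IsAffineHom G.hom)
    (hGs : Smooth G.hom) (hL : Red.IsReductive L) (i : L ⟶ G) [IsMonHom i] [Mono i] : IsClosedImmersion i.left := by
  have h1 : LocallyOfFinitePresentation G.hom := inferInstance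
  have h2 : QuasiCompact G.hom := inferInstance
  have h3 : QuasiSeparated G.hom := inferInstance
  exact (Groth.Agent.S4127.result S L G hL i).2 inferInstance

/-- `L` is reductive, `L` and `U` are closed in `G`. -/
theorem main (hH : _root_.RedSub.IsTypeR h) (ht : t ≫ h = D.i) {R' : Set D.idx}
    (hR' : ∀ a : D.idx, (∃ v : Red.Ga S ⟶ H, v ≫ h = D.u a) ↔ a ∈ R')
    (hmu0 : ∀ a ∈ R', D.P.reflectionPerm a a ∈ R' → mu (D.P.root a) = 0)
    (hmu1 : ∀ a ∈ R', D.P.reflectionPerm a a ∉ R' → 0 < mu (D.P.root a))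
    (d : Dec h (coH t mu) l u π) :
    Red.IsReductive L ∧ IsClosedImmersion (l ≫ h).left ∧ IsClosedImmersion (u ≫ h).left := by
  have hPred := SplitReduced415.isReduced D
  have hmu : ∀ a ∈ R', 0 ≤ mu (D.P.root a) := by
    intro a ha
    by_cases h : D.P.reflectionPerm a a ∈ R'
    · exact (hmu0 a ha h).ge
    · exact (hmu1 a ha h).le
  have hmu0' : ∀ a ∈ R', mu (D.P.root a) = 0 → D.P.reflectionPerm a a ∈ R' := by
    intro a ha h0
    by_contra h
    have := hmu1 a ha h
    omega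
  have hG := D.reductive.1
  have hG2 := D.reductive.2.1
  have h1 := hH.1.1
  have h2 := hH.1.2
  have h3 := hH.2.1
  have h4 := hH.2.2.1
  have h5 := hH.2.2.2.1
  have hmono : Mono h := mono_imm h
  have htm := isMonHom_t t ht
  have hlm := isMonHom_coH (mu := mu) t ht
  have hco := coH_comp (mu := mu) t ht
  have hlm' := d.lmon
  have hlmono := d.lmono
  have hlcl := d.lcl
  have hum' := d.umon
  have hucl := d.ucl
  have hlhm : Mono (l ≫ h) := mono_comp l h
  -- the torus is contained in `L`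
  obtain ⟨tL, htL⟩ := (d.memL t).2 (by rw [ht, hco]; exact ptZ_torus D mu)
  have htL' : tL ≫ l ≫ h = D.i := by rw [← Category.assoc, htL, ht]
  have hsub : _root_.RedSub.IsSubgrp (l ≫ h) := ⟨inferInstance, by rw [Over.comp_left]; infer_instance⟩
  have hRL : _root_.RedSub.IsTypeR (l ≫ h) :=
    H641.TypeRBc.isTypeR_of_torus D.reductive hsub d.smoothL d.qcL (d.connL h5) tL
      (by rw [htL']; exact D.maximalTorus)
  have hR₁ : ∀ a : D.idx, (∃ v : Red.Ga S ⟶ L, v ≫ l ≫ h = D.u a) ↔ a ∈ {a | a ∈ R' ∧ mu (D.P.root a) = 0} := by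
    intro a
    constructor
    · rintro ⟨w, hw⟩
      have ha : a ∈ R' := (hR' a).1 ⟨w ≫ l, by rw [Category.assoc, hw]⟩
      refine ⟨ha, ?_⟩
      have hZ : PtZ (coch D mu) (D.u a) := by
        rw [← hw, ← Category.assoc, ← hco]
        exact (d.memL _).1 ⟨w, rfl⟩
      by_contra hne
      exact not_ptZ_u D mu a (lt_of_le_of_ne (hmu a ha) (Ne.symm hne)) hZ
    · rintro ⟨ha, h0⟩
      obtain ⟨v, hv⟩ := (hR' a).2 ha
      exact exists_lift_L ht d hv h0
  have hred : Red.IsReductive L := (Groth.Agent.S5529.result D (l ≫ h) hRL tL htL' _ hR₁).2 fun a ha =>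
    ⟨hmu0' a ha.1 ha.2, by
      rw [D.P.root_reflectionPerm, D.P.reflection_apply_self, map_neg, ha.2, neg_zero]⟩
  refine ⟨hred, isClosedImmersion_of_isReductive hG hG2 hred (l ≫ h), ?_⟩
  have hfin : Module.Finite ℤ D.M := D.finiteM
  have hfree : Module.Free ℤ D.M := D.freeM
  obtain ⟨b, hb⟩ := RootFun.exists_base D.P mu
  obtain ⟨m, e, he⟩ := H637.PosRoots.exists_enumerates {a | a ∈ R' ∧ 0 < mu (D.P.root a)}
  obtain ⟨ψ, hψ⟩ := exists_prodIso hH ht hR' hmu d b hb e he
  have h7 : u ≫ h = ψ.inv ≫ _root_.RedSub.prodMap (Red.Ga S) m (fun k => D.u (e k)) := by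
    rw [← hψ, Iso.inv_hom_id_assoc]
  have h8 := PartBorel.isClosedImmersion_prodMap D b e he.1 fun k =>
    hb _ (show e k ∈ {a | a ∈ R' ∧ 0 < mu (D.P.root a)} from he.2 ▸ ⟨k, rfl⟩).2
  have h9 : IsIso ψ.inv.left := inferInstanceAs (IsIso ((Over.forget S).map ψ.inv))
  rw [h7, Over.comp_left]
  infer_instance

end K213.LocConn
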