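import Groth.Agent.RedSub.K213.LocMain
import Groth.Agent.RedSub.H643.TypeRTorus
import Groth.Agent.S5543

/-!
# Closedness of subgroups of type (RC); étale-local existence of the Levi data

* `exists_nbhd`: neighbourhoods on which the tangent roots are constant;
* `closed_of_const`, `closed_of_split`, `closed`: subgroups of type (RC) are closed;
* `exists_dat`: the local data of `Glob.lean`.
-/

set_option autoImplicit false
set_option linter.unusedSectionVars false

universe u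

open CategoryTheory MonoidalCategory CartesianMonoidalCategory MonObj GrpObj AlgebraicGeometry
open Groth.Agent.Sga3B Groth.Agent.Sga3B.Parab
open Groth.Agent.Sga3B.Parab.Dyn998 Groth.Agent.Sga3B.Parab.DynExist998
open Groth.Agent.Sga3B.Parab.DynBc998 Groth.Agent.Sga3B.Parab.DynLevi998
open Groth.Agent.Sga3B.Parab.ConjPt Groth.Agent.Sga3B.Parab.RadExist147
open Groth.Agent.Sga3B.BorRP478 Groth.Agent.Sga3B.DSPts Groth.Agent.Sga3B.GaPts
open Groth.Agent.Sga3B.SplitBc264 Groth.Agent.Sga3B.SplitIso848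
open Groth.Agent.Sga3B.Parab.GeomFib147 Groth.Agent.Sga3B.Parab.GeomBC147

namespace K213.LocDat

open Groth.Agent Groth.Agent.RedSub K195 K195.DynH K195.TypeRDec K195.Tang H635 H635.Uniq K213.RC

section Split

variable {S S' : Scheme.{u}} {G H : Over S} [GrpObj G] [GrpObj H]
  {D : Red.SplitRed G} {h : H ⟶ G} {t : D.T ⟶ H}

/-- Neighbourhoods on which the tangent roots are constant. -/
theorem exists_nbhd [IsMonHom h] [IsImmersion h.left] [Smooth H.hom] (ht : t ≫ h = D.i) (s₀ : S) :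
    ∃ W : S.Opens, s₀ ∈ W ∧ ∀ s ∈ W, ∀ a, s ∈ E D h a ↔ s₀ ∈ E D h a := by
  classical
  let W : D.idx → Set S := fun a => if s₀ ∈ E D h a then E D h a else (E D h a)ᶜ
  have hW : ∀ a, IsOpen (W a) := by
    intro a
    have hcl := isClopen_E D h t ht a
    change IsOpen (if s₀ ∈ E D h a then E D h a else (E D h a)ᶜ)
    split_ifs
    · exact hcl.isOpen
    · exact hcl.compl.isOpen
  have hsW : ∀ a, s₀ ∈ W a := by
    intro a
    change s₀ ∈ (if s₀ ∈ E D h a then E D h a else (E D h a)ᶜ)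
    split_ifs with hs
    · exact hs
    · exact hs
  refine ⟨⟨⋂ a, W a, isOpen_iInter_of_finite hW⟩, Set.mem_iInter.2 hsW, fun s hs a => ?_⟩
  have h1 : s ∈ (if s₀ ∈ E D h a then E D h a else (E D h a)ᶜ) := Set.mem_iInter.1 hs a
  split_ifs at h1 with h2
  · exact ⟨fun _ => h2, fun _ => h1⟩
  · exact ⟨fun h3 => absurd h3 h1, fun h3 => absurd h3 h2⟩

/-- The dynamic decomposition over a base with constant closed tangent roots. -/
theorem exists_all (hH : _root_.RedSub.IsTypeR h) (ht : t ≫ h = D.i) (s₀ : S)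
    (hR' : ∀ (s : S) (a : D.idx), s ∈ E D h a ↔ s₀ ∈ E D h a) (hcl : RCE D h) :
    ∃ (mu : D.M →+ ℤ) (L U : Over S) (_ : GrpObj L) (_ : GrpObj U) (l : L ⟶ H) (u : U ⟶ H) (π : H ⟶ L),
      Dec h (coH t mu) l u π ∧ PtP (coch D mu) h ∧ Red.IsReductive L ∧ IsClosedImmersion (u ≫ h).left := by
  have hne : Nonempty S := ⟨s₀⟩
  have hPred := SplitReduced415.isReduced D
  obtain ⟨mu, hmu0, hmu1⟩ := RootFun.exists_mu (P := D.P) (R' := {a | s₀ ∈ E D h a}) (fun a b c ha hb hc =>
    hcl s₀ a b c ha hb hc)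
  have hmu : ∀ (s : S) (a : D.idx), s ∈ E D h a → 0 ≤ mu (D.P.root a) := by
    intro s a ha
    have ha' := (hR' s a).1 ha
    by_cases h : D.P.reflectionPerm a a ∈ {a | s₀ ∈ E D h a}
    · exact (hmu0 a ha' h).ge
    · exact (hmu1 a ha' h).le
  have hP := LocMain.ptP_of_E hH ht hmu
  have hG := D.reductive.1
  have hG2 := D.reductive.2.1
  have h1 := hH.1.1
  have h2 := hH.1.2
  have hmono : Mono h := mono_imm h
  have hlm := isMonHom_coH (mu := mu) t ht
  have hco := coH_comp (mu := mu) t ht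
  obtain ⟨L, U, _, _, l, u, π, d⟩ := exists_dec (i := h) (lam := coH t mu) (by rw [hco]; exact hP)
  obtain ⟨e1, e2⟩ := LocMain.const (R' := {a | s₀ ∈ E D h a}) hH ht hR' hmu0 hmu1 d
  exact ⟨mu, L, U, inferInstance, inferInstance, l, u, π, d, hP, e1, e2⟩

lemma quasiCompact_left (hG : IsSeparated G.hom) [QuasiCompact H.hom] : QuasiCompact h.left := by
  have : QuasiCompact (h.left ≫ G.hom) := by
    rw [Over.w]
    infer_instance
  exact QuasiCompact.of_comp h.left G.hom

/-- `H` is closed if the tangent roots are constant and closed. -/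
theorem closed_of_const (hH : _root_.RedSub.IsTypeR h) (ht : t ≫ h = D.i) (s₀ : S)
    (hR' : ∀ (s : S) (a : D.idx), s ∈ E D h a ↔ s₀ ∈ E D h a) (hcl : RCE D h) : IsClosedImmersion h.left := by
  obtain ⟨mu, L, U, _, _, l, u, π, d, hP, hL, hu⟩ := exists_all hH ht s₀ hR' hcl
  have hG := D.reductive.1
  have hG2 := D.reductive.2.1
  have h1 := hH.1.1
  have h2 := hH.1.2
  have hmono : Mono h := mono_imm h
  have hlm := isMonHom_coH (mu := mu) t ht
  have hco := coH_comp (mu := mu) t ht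
  have hlm' := d.lmon
  have hlmono := d.lmono
  have hlhm : Mono (l ≫ h) := mono_comp l h
  exact Glob.isClosedImmersion hG hG2 d (by rw [hco]; exact hP)
    (LocConn.isClosedImmersion_of_isReductive hG hG2 hL (l ≫ h)) hu

/-- `H` is closed (split case). -/
theorem closed_of_split (hH : _root_.RedSub.IsTypeR h) (ht : t ≫ h = D.i) (hcl : RCE D h) :
    IsClosedImmersion h.left := by
  have hG := D.reductive.1
  have h1 := hH.1.1
  have h2 := hH.1.2
  have h3 := hH.2.1
  have h4 := hH.2.2.1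
  have hq : QuasiCompact h.left := quasiCompact_left inferInstance
  refine FlatClosed.isClosedImmersion_of_flat h fun s₀ => ?_
  obtain ⟨W, hW, hc⟩ := exists_nbhd ht s₀
  refine ⟨W, W.ι, inferInstance, ⟨⟨s₀, hW⟩, rfl⟩, ?_⟩
  refine closed_of_const (D := splitBc W.ι D) (h := (Over.pullback W.ι).map h)
    (H641.TypeRBc.isTypeR_bc_of_torus W.ι D.reductive hH t (by rw [ht]; exact D.maximalTorus))
    (Le.bc_torus D W.ι ht) ⟨s₀, hW⟩ (fun s (a : D.idx) => ?_) (rce_bc hcl W.ι)
  rw [mem_E_bc_iff W.ι D h a s, mem_E_bc_iff W.ι D h a ⟨s₀, hW⟩]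
  exact hc _ s.2 a

end Split

/-- **Subgroups of type (RC) are closed.** -/
theorem closed {S : Scheme.{u}} {G H : Over S} [GrpObj G] [GrpObj H] (hG : Red.IsReductive G) (h : H ⟶ G)
    (hH : _root_.RedSub.IsTypeR h) (hRC : ∀ s : S, RCat h (Red.geomPt s)) : IsClosedImmersion h.left := by
  have hGa := hG.1
  have h1 := hH.1.1
  have h2 := hH.1.2
  have h3 := hH.2.1
  have h4 := hH.2.2.1
  have hq : QuasiCompact h.left := quasiCompact_left inferInstance
  refine FlatClosed.isClosedImmersion_of_flat h fun s => ?_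
  obtain ⟨U, f, hf, hs, D, t, ht⟩ := H643.TypeRTorus.exists_splitRed_into hG h hH s
  have hqf := Desc.LQF.of_etale f
  refine ⟨U, f, inferInstance, hs, closed_of_split (H648.TypeR.isTypeR_bc f hG hH) ht
    (rce_of_rc h hRC f D t ht)⟩

section Iso

variable {S : Scheme.{u}} {G G' H H' : Over S} [GrpObj G] [GrpObj G'] [GrpObj H] [GrpObj H']

/-- Transport of tangent roots along isomorphisms. -/
theorem E_iso (eG : Grp.mk G ≅ Grp.mk G') (eH : H ≅ H') {h : H ⟶ G} {h' : H' ⟶ G'}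
    (hh : eH.hom ≫ h' = h ≫ eG.hom.hom.hom) (D : Red.SplitRed G) (a : D.idx) :
    E (splitOfIso eG D) h' a = E D h a := by
  have key : ∀ {X : Over S} (w : X ⟶ G), (∃ v : X ⟶ H', v ≫ h' = w ≫ eG.hom.hom.hom) ↔ ∃ v : X ⟶ H, v ≫ h = w := by
    intro X w
    constructor
    · rintro ⟨v, hv⟩
      refine ⟨v ≫ eH.inv, ?_⟩
      have hm : Mono eG.hom.hom.hom := by
        have : IsIso eG.hom.hom.hom := ((Grp.forget _).mapIso eG).isIso_hom
        infer_instance
      rw [← cancel_mono eG.hom.hom.hom, Category.assoc, Category.assoc, ← hh, Iso.inv_hom_id_assoc, hv]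
    · rintro ⟨v, rfl⟩
      exact ⟨v ≫ eH.hom, by rw [Category.assoc, hh, Category.assoc]⟩
  ext s
  constructor
  · rintro ⟨K, _, x, hx, hv⟩
    refine ⟨K, inferInstance, x, hx, (key _).1 ?_⟩
    obtain ⟨v, hv⟩ := hv
    exact ⟨v, hv.trans (Category.assoc _ _ _).symm⟩
  · rintro ⟨K, _, x, hx, hv⟩
    refine ⟨K, inferInstance, x, hx, ?_⟩
    obtain ⟨v, hv⟩ := (key _).2 hv
    exact ⟨v, hv.trans (Category.assoc _ _ _)⟩

end Iso

section Dat

variable {S : Scheme.{u}} {G H T : Over S} [GrpObj G] [GrpObj H] [GrpObj T]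

/-- Étale neighbourhoods with constant tangent roots. -/
theorem exists_const (hG : Red.IsReductive G) (h : H ⟶ G) (hH : _root_.RedSub.IsTypeR h) (t : T ⟶ H) [IsMonHom t]
    (hT : Red.IsMaximalTorus (t ≫ h)) (s : S) :
    ∃ (S' : Scheme.{u}) (f : S' ⟶ S) (_ : Etale f), s ∈ Set.range f ∧
      ∃ (D : Red.SplitRed (Red.bc f G)) (e : D.T ≅ Red.bc f T), (e.hom ≫ (Over.pullback f).map t) ≫
        (Over.pullback f).map h = D.i ∧ ∃ s₀ : S', ∀ (s' : S') (a : D.idx), s' ∈ E D ((Over.pullback f).map h) a ↔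
          s₀ ∈ E D ((Over.pullback f).map h) a := by
  obtain ⟨U, f, hf, ⟨u₀, hu₀⟩, D, e, hD⟩ := Groth.Agent.S5543.result hG (t ≫ h) hT s
  have h1 := hH.1.1
  have h2 := hH.1.2
  have h3 := hH.2.1
  have hHf := H648.TypeR.isTypeR_bc f hG hH
  have e1 := hHf.1.1
  have e2 := hHf.1.2
  have e3 := hHf.2.1
  have ht : (e.hom ≫ (Over.pullback f).map t) ≫ (Over.pullback f).map h = D.i := by
    rw [Category.assoc, ← Functor.map_comp, hD]
  obtain ⟨W, hW, hc⟩ := exists_nbhd ht u₀
  let iG := (BcIso.bcCompIso W.ι f G).symm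
  let iH := isoOf (BcIso.bcCompIso W.ι f H).symm
  let iT := isoOf (BcIso.bcCompIso W.ι f T).symm
  have hGH : iH.hom ≫ (Over.pullback (W.ι ≫ f)).map h = (Over.pullback W.ι).map ((Over.pullback f).map h) ≫
      iG.hom.hom.hom := symm_w _ _ (bcCompIso_natural W.ι f h)
  have hTH : iT.hom ≫ (Over.pullback (W.ι ≫ f)).map t = (Over.pullback W.ι).map ((Over.pullback f).map t) ≫
      iH.hom := symm_w _ _ (bcCompIso_natural W.ι f t)
  refine ⟨W, W.ι ≫ f, inferInstance, ⟨⟨u₀, hW⟩, ?_⟩, splitOfIso iG (splitBc W.ι D),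
    (Over.pullback W.ι).mapIso e ≪≫ iT, ?_, ⟨u₀, hW⟩, ?_⟩
  · rw [Scheme.Hom.comp_apply]
    exact hu₀
  · change (((Over.pullback W.ι).map e.hom ≫ iT.hom) ≫ (Over.pullback (W.ι ≫ f)).map t) ≫
      (Over.pullback (W.ι ≫ f)).map h = (Over.pullback W.ι).map D.i ≫ iG.hom.hom.hom
    rw [Category.assoc ((Over.pullback W.ι).map e.hom), hTH, Category.assoc, Category.assoc, hGH, ← ht]
    simp only [Functor.map_comp, Category.assoc]
  · intro s' (a : D.idx)
    have h4 := E_iso iG iH hGH (splitBc W.ι D) a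
    have h5 : ∀ s' : (W : Scheme.{u}), s' ∈ E (splitOfIso iG (splitBc W.ι D)) ((Over.pullback (W.ι ≫ f)).map h) a ↔
        W.ι s' ∈ E D ((Over.pullback f).map h) a := by
      intro s'
      rw [h4]
      exact mem_E_bc_iff W.ι D ((Over.pullback f).map h) a s'
    rw [h5 s', h5 ⟨u₀, hW⟩]
    exact hc _ s'.2 a

/-- **Étale-local existence of the Levi data.** -/
theorem exists_dat (hG : Red.IsReductive G) (h : H ⟶ G) (hH : _root_.RedSub.IsTypeR h)
    (hRC : ∀ s : S, RCat h (Red.geomPt s)) (t : T ⟶ H) [IsMonHom t] (hT : Red.IsMaximalTorus (t ≫ h)) (s : S) :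
    ∃ (S' : Scheme.{u}) (f : S' ⟶ S), Etale f ∧ s ∈ Set.range f ∧ Nonempty (Glob.Dat h t f) := by
  obtain ⟨S', f, hf, hs, D, e, ht, s₀, hconst⟩ := exists_const hG h hH t hT s
  have h1 := hH.1.1
  have h2 := hH.1.2
  have h3 := hH.2.1
  have hHf := H648.TypeR.isTypeR_bc f hG hH
  have e1 := hHf.1.1
  have e2 := hHf.1.2
  have e3 := hHf.2.1
  have hqf := Desc.LQF.of_etale f
  have hmono : Mono ((Over.pullback f).map h) := mono_imm _
  obtain ⟨mu, L, U, _, _, l, u, π, d, hP, hL, hu⟩ := exists_all hHf ht s₀ hconst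
    (rce_of_rc h hRC f D _ ht)
  have hem : IsMonHom e.hom := by
    have e4 : Mono ((Over.pullback f).map t) := by
      have e5 : Mono (t ≫ h) := hT.2.1
      have : Mono t := mono_of_mono t h
      infer_instance
    have e6 := isMonHom_t _ ht
    exact isMonHom_of_comp_mono (p := (Over.pullback f).map t)
  have hco : coH (e.hom ≫ (Over.pullback f).map t) mu =
      (Red.DSmap S' mu ≫ D.split.inv.hom.hom ≫ e.hom) ≫ (Over.pullback f).map t := by
    unfold coH
    simp only [Category.assoc]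
  refine ⟨S', f, hf, hs, ⟨⟨Red.DSmap S' mu ≫ D.split.inv.hom.hom ≫ e.hom, inferInstance, ?_, L, U, inferInstance,
    inferInstance, l, u, π, ?_, ?_, hL, hu⟩⟩⟩
  · intro X a b
    exact MaxTorNear900.mul_comm_of_isTorus (TorusBc.isTorus_bc f hT.2.2.1) X a b
  · rw [← hco]
    exact d
  · rw [← hco, coH_comp _ ht]
    exact hP

end Dat

end K213.LocDat
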