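import Groth.Agent.RedSub.K195.Le
import Groth.Agent.Sga3B.SplitIso848
import Groth.Agent.Sga3B.Parab.GeomFib147

/-!
# The closedness condition (RC) on the tangent roots of an étale split form

`RC h` : on each geometric fibre the roots of `H` with respect to a maximal torus form a closed set of roots
(hypothesis of S5573).

* `RCE D h`: at each point the set of tangent roots is closed.
* `rce_of_rc`: (RC) for `h` gives (RCE) for a splitting of `G_{S'}`, `S' ⟶ S` locally quasi-finite (e.g. étale).
-/

set_option autoImplicit false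
set_option linter.unusedSectionVars false

universe u

open CategoryTheory MonoidalCategory CartesianMonoidalCategory MonObj GrpObj AlgebraicGeometry

namespace K213.RC

open Groth.Agent Groth.Agent.RedSub Groth.Agent.Sga3B Groth.Agent.Sga3B.SplitBc264 H635 H635.Uniq K195 K195.Tang
  Groth.Agent.Sga3B.SplitIso848 Groth.Agent.Sga3B.Parab.GeomFib147 Groth.Agent.Sga3B.Parab.GeomBC147

/-- The closedness condition for the roots at a geometric point. -/
def RCat {S X : Scheme.{u}} {G H : Over S} [GrpObj G] (h : H ⟶ G) (x : X ⟶ S) : Prop :=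
  ∀ (D' : Red.SplitRed (Red.bc x G)) (t' : D'.T ⟶ Red.bc x H), t' ≫ (Over.pullback x).map h = D'.i →
    ∀ a b c : D'.idx, (∃ v, v ≫ (Over.pullback x).map h = D'.u a) →
      (∃ v, v ≫ (Over.pullback x).map h = D'.u b) → D'.P.root a + D'.P.root b = D'.P.root c →
      ∃ v, v ≫ (Over.pullback x).map h = D'.u c

/-- The tangent roots at each point form a closed set of roots. -/
def RCE {S : Scheme.{u}} {G H : Over S} [GrpObj G] (D : Red.SplitRed G) (h : H ⟶ G) : Prop :=
  ∀ (s : S) (a b c : D.idx), s ∈ E D h a → s ∈ E D h b → D.P.root a + D.P.root b = D.P.root c → s ∈ E D h c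

theorem rce_bc {S S' : Scheme.{u}} {G H : Over S} [GrpObj G] [GrpObj H] {D : Red.SplitRed G} {h : H ⟶ G}
    (hr : RCE D h) (f : S' ⟶ S) : RCE (splitBc f D) ((Over.pullback f).map h) := by
  intro s a b c ha hb hc
  have ha' := (mem_E_bc_iff f D h a s).1 ha
  have hb' := (mem_E_bc_iff f D h b s).1 hb
  exact (mem_E_bc_iff f D h c s).2 (hr _ a b c ha' hb' hc)

variable {S S' : Scheme.{u}} {G H : Over S} [GrpObj G] [GrpObj H] (h : H ⟶ G)

lemma rcat_comp {X : Scheme.{u}} (y : X ⟶ S') (f : S' ⟶ S) (hr : RCat h (y ≫ f))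
    (D : Red.SplitRed (Red.bc y (Red.bc f G))) (t : D.T ⟶ Red.bc y (Red.bc f H))
    (ht : t ≫ (Over.pullback y).map ((Over.pullback f).map h) = D.i)
    (a b c : D.idx) (ha : ∃ v, v ≫ (Over.pullback y).map ((Over.pullback f).map h) = D.u a)
    (hb : ∃ v, v ≫ (Over.pullback y).map ((Over.pullback f).map h) = D.u b)
    (hc : D.P.root a + D.P.root b = D.P.root c) :
    ∃ v, v ≫ (Over.pullback y).map ((Over.pullback f).map h) = D.u c := by
  let eG := (BcIso.bcCompIso y f G).symm
  let eH := (BcIso.bcCompIso y f H).symm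
  have hnat : eH.hom.hom.hom ≫ (Over.pullback (y ≫ f)).map h =
      (Over.pullback y).map ((Over.pullback f).map h) ≫ eG.hom.hom.hom :=
    symm_w _ _ (bcCompIso_natural y f h)
  have key : ∀ {Z : Over X} (w : Z ⟶ Red.bc y (Red.bc f G)),
      (∃ v, v ≫ (Over.pullback y).map ((Over.pullback f).map h) = w) ↔
        ∃ v, v ≫ (Over.pullback (y ≫ f)).map h = w ≫ eG.hom.hom.hom := by
    intro Z w
    constructor
    · rintro ⟨v, rfl⟩
      exact ⟨v ≫ eH.hom.hom.hom, by rw [Category.assoc, hnat, Category.assoc]⟩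
    · rintro ⟨v, hv⟩
      refine ⟨v ≫ eH.inv.hom.hom, ?_⟩
      have h1 : eH.inv.hom.hom ≫ (Over.pullback y).map ((Over.pullback f).map h) =
          (Over.pullback (y ≫ f)).map h ≫ eG.inv.hom.hom := symm_w _ _ hnat
      rw [Category.assoc, h1, ← Category.assoc, hv, Category.assoc, hom_inv eG, Category.comp_id]
  obtain ⟨t', ht'⟩ := (key D.i).1 ⟨t, ht⟩
  exact (key _).2 (hr (splitOfIso eG D) t' ht' a b c ((key _).1 ha) ((key _).1 hb) hc)

/-- **(RC) on geometric fibres gives closed tangent roots for splittings of étale base changes.** -/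
theorem rce_of_rc [IsMonHom h] [IsImmersion h.left] [Smooth H.hom]
    (hRC : ∀ s : S, RCat h (Red.geomPt s)) (f : S' ⟶ S) [LocallyQuasiFinite f]
    (D : Red.SplitRed (Red.bc f G)) (τ : D.T ⟶ Red.bc f H) (hτ : τ ≫ (Over.pullback f).map h = D.i) :
    RCE D ((Over.pullback f).map h) := by
  intro s a b c ha hb hc
  obtain ⟨φ, hφ, hφ'⟩ := Parab.GeomFib147.exists_geomPt f s
  let y := inv φ ≫ Red.geomPt s
  have hy : y ≫ f = Red.geomPt (f s) := by
    rw [Category.assoc, hφ', IsIso.inv_hom_id_assoc]
  have hr : RCat h (y ≫ f) := by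
    rw [hy]
    exact hRC (f s)
  have hpt : ∀ p, y p = s := by
    intro p
    have h1 : (inv φ) p = IsLocalRing.closedPoint (AlgebraicClosure (S'.residueField s)) :=
      (inferInstance : Subsingleton (PrimeSpectrum (AlgebraicClosure (S'.residueField s)))).elim _ _
    change (inv φ ≫ Red.geomPt s) p = s
    rw [Scheme.Hom.comp_apply, h1]
    exact H652.FibOpen.geomPt_closedPoint s
  have e1 : IsImmersion ((Over.pullback f).map h).left :=
    MorphismProperty.of_isPullback (P := @IsImmersion) (Parab.EtHom.isPullback_map f h) ‹_›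
  have e2 : IsImmersion ((Over.pullback y).map ((Over.pullback f).map h)).left :=
    MorphismProperty.of_isPullback (P := @IsImmersion) (Parab.EtHom.isPullback_map y ((Over.pullback f).map h)) e1
  have e3 : Smooth (Red.bc f H).hom := inferInstanceAs (Smooth (Limits.pullback.snd _ _))
  have e4 : Smooth (Red.bc y (Red.bc f H)).hom := inferInstanceAs (Smooth (Limits.pullback.snd _ _))
  have key : ∀ a : D.idx, s ∈ E D ((Over.pullback f).map h) a ↔
      ∃ v, v ≫ (Over.pullback y).map ((Over.pullback f).map h) = (splitBc y D).u a := by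
    intro a
    constructor
    · intro ha
      refine exists_lift_u (splitBc y D) ((Over.pullback y).map ((Over.pullback f).map h))
        ((Over.pullback y).map τ) (Le.bc_torus D y hτ) a (Set.eq_univ_of_forall fun p => ?_)
      rw [mem_E_bc_iff, hpt]
      exact ha
    · intro hv
      have h1 := mem_E_of_lift (splitBc y D) ((Over.pullback y).map ((Over.pullback f).map h)) a hv
        (⊥ : PrimeSpectrum _)
      rw [mem_E_bc_iff, hpt] at h1
      exact h1
  rw [key]
  exact rcat_comp h y f hr (splitBc y D) ((Over.pullback y).map τ) (Le.bc_torus D y hτ) a b c ((key a).1 ha)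
    ((key b).1 hb) hc

end K213.RC
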