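import Groth.Agent.RedSub.K213.LocConn
import Groth.Agent.RedSub.K213.FlatClosed
import Groth.Agent.RedSub.K213.RC
import Groth.Agent.RedSub.K213.Glob
import Groth.Agent.Sga3B.BorLB3991

/-!
# Local existence of the Levi data of a subgroup of type (RC)
-/

set_option autoImplicit false
set_option linter.unusedSectionVars false

universe u

open CategoryTheory MonoidalCategory CartesianMonoidalCategory MonObj GrpObj AlgebraicGeometry
open Groth.Agent.Sga3B Groth.Agent.Sga3B.Parab
open Groth.Agent.Sga3B.Parab.Dyn998 Groth.Agent.Sga3B.Parab.DynExist998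
open Groth.Agent.Sga3B.Parab.DynBc998 Groth.Agent.Sga3B.Parab.DynLevi998
open Groth.Agent.Sga3B.Parab.ConjPt Groth.Agent.Sga3B.Parab.RadExist147
open Groth.Agent.Sga3B.BorRP478 Groth.Agent.Sga3B.DSPts Groth.Agent.Sga3B.GaPts
open Groth.Agent.Sga3B.SplitBc264

namespace K213.LocMain

open Groth.Agent Groth.Agent.RedSub K195 K195.DynH K195.TypeRDec K195.Tang H635 H635.Uniq K213.RC

variable {S S' : Scheme.{u}} {G H L U : Over S} [GrpObj G] [GrpObj H] [GrpObj L] [GrpObj U]
  {D : Red.SplitRed G} {mu : D.M →+ ℤ} {h : H ⟶ G} {t : D.T ⟶ H} {l : L ⟶ H} {u : U ⟶ H} {π : H ⟶ L}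

lemma connectedSpace_of_isLocalRing (R : Type u) [CommRing R] [IsLocalRing R] : ConnectedSpace (PrimeSpectrum R) := by
  have h1 : PreconnectedSpace (PrimeSpectrum R) := by
    refine ⟨isPreconnected_of_forall (IsLocalRing.closedPoint R) fun y _ =>
      ⟨closure {y}, Set.subset_univ _, ?_, subset_closure rfl, isPreconnected_singleton.closure⟩⟩
    exact (IsLocalRing.specializes_closedPoint y).mem_closure
  exact { toPreconnectedSpace := h1, toNonempty := ⟨IsLocalRing.closedPoint R⟩ }

/-- `H ⊆ P_G(mu)` from the tangent roots. -/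
theorem ptP_of_E (hH : _root_.RedSub.IsTypeR h) (ht : t ≫ h = D.i)
    (hmu : ∀ (s : S) (a : D.idx), s ∈ E D h a → 0 ≤ mu (D.P.root a)) : PtP (coch D mu) h := by
  obtain ⟨⟨h1, h2⟩, h3, -, h4, -⟩ := hH
  have hG := D.reductive.1
  have hG2 := D.reductive.2.1
  have hm := isMonHom_coch D mu
  obtain ⟨P, _, p, hp, -⟩ := exists_isDynP (coch D mu)
  have hpm := hp.isMonHom
  have hpmono := hp.mono
  have hpcl := hp.isClosedImmersion
  have hps := hp.smooth
  obtain ⟨t₂, ht₂⟩ := (hp.iff_ptP _ _).2 (BorLB2991.ptP_torus D mu)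
  obtain ⟨v, hv⟩ := Le.exists_le_of_E D h p h4 t ht t₂ ht₂ fun a s hs =>
    mem_E_of_lift D p a (exists_lift_P D mu hp a (hmu s a hs)) s
  exact (hp.iff_ptP _ _).1 ⟨v, hv⟩

/-- Base change of the cocharacter. -/
lemma bcLam_coH [IsMonHom h] [Mono h] (ht : t ≫ h = D.i) (c : S' ⟶ S) :
    bcLam (coH t mu) c = coH (D := splitBc c D) (t := (show (splitBc c D).T ⟶ Red.bc c H from (Over.pullback c).map t))
      mu := by
  rw [← cancel_mono ((Over.pullback c).map h)]
  rw [coH_comp (D := splitBc c D) (h := (Over.pullback c).map h) _ (Le.bc_torus D c ht), ← bcLam_comp,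
    coH_comp t ht]
  exact (BorLB3991.coch_bc D mu c).symm

/-- The conclusions over a base on which the tangent roots are constant. -/
theorem const [Nonempty S] (hH : _root_.RedSub.IsTypeR h) (ht : t ≫ h = D.i) {R' : Set D.idx}
    (hR' : ∀ (s : S) (a : D.idx), s ∈ E D h a ↔ a ∈ R')
    (hmu0 : ∀ a ∈ R', D.P.reflectionPerm a a ∈ R' → mu (D.P.root a) = 0)
    (hmu1 : ∀ a ∈ R', D.P.reflectionPerm a a ∉ R' → 0 < mu (D.P.root a))
    (d : Dec h (coH t mu) l u π) :
    Red.IsReductive L ∧ IsClosedImmersion (u ≫ h).left := by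
  have hG := D.reductive.1
  have hG2 := D.reductive.2.1
  have h1 := hH.1.1
  have h2 := hH.1.2
  have h3 := hH.2.1
  have h4 := hH.2.2.1
  have h5 := hH.2.2.2.1
  have hmono : Mono h := mono_imm h
  have hlm' := d.lmon
  have hlcl := d.lcl
  have hum' := d.umon
  have hucl := d.ucl
  -- the conclusions over a connected base
  have key : ∀ {C : Scheme.{u}} (c : C ⟶ S) (_ : ConnectedSpace C), Red.IsReductive (Red.bc c L) ∧
      IsClosedImmersion ((Over.pullback c).map (l ≫ h)).left ∧
      IsClosedImmersion ((Over.pullback c).map (u ≫ h)).left := by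
    intro C c _
    have hHc : _root_.RedSub.IsTypeR ((Over.pullback c).map h) :=
      H641.TypeRBc.isTypeR_bc_of_torus c D.reductive hH t (by rw [ht]; exact D.maximalTorus)
    have e1 := hHc.1.1
    have e2 := hHc.1.2
    have e3 := hHc.2.1
    have htc := Le.bc_torus D c ht
    have hd := DecBc.bc d c
    rw [bcLam_coH ht c] at hd
    have hlift : ∀ a : (splitBc c D).idx, (∃ v : Red.Ga C ⟶ Red.bc c H, v ≫ (Over.pullback c).map h = (splitBc c D).u a) ↔
        a ∈ R' := by
      intro (a : D.idx)
      constructor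
      · intro hv
        have h6 := mem_E_of_lift (splitBc c D) ((Over.pullback c).map h) a hv (Classical.arbitrary C)
        exact (hR' _ a).1 ((mem_E_bc_iff c D h a _).1 h6)
      · intro ha
        exact exists_lift_u (splitBc c D) ((Over.pullback c).map h) _ htc a (Set.eq_univ_of_forall fun p =>
          (mem_E_bc_iff c D h a p).2 ((hR' _ a).2 ha))
    have h7 := LocConn.main (D := splitBc c D) (mu := mu) hHc htc hlift hmu0 hmu1 hd
    rw [← Functor.map_comp, ← Functor.map_comp] at h7
    exact h7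
  have hcl : ∀ {X : Over S} (i : X ⟶ G) (_ : IsImmersion i.left) (_ : QuasiCompact i.left),
      (∀ {C : Scheme.{u}} (c : C ⟶ S) (_ : ConnectedSpace C), IsClosedImmersion ((Over.pullback c).map i).left) →
      IsClosedImmersion i.left := by
    intro X i _ _ hi
    refine FlatClosed.isClosedImmersion_of_flat i fun s => ⟨_, S.fromSpecStalk s, inferInstance, ?_, hi _ ?_⟩
    · refine ⟨IsLocalRing.closedPoint (S.presheaf.stalk s), Scheme.fromSpecStalk_closedPoint⟩
    · exact connectedSpace_of_isLocalRing (S.presheaf.stalk s)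
  have hlh : IsImmersion (l ≫ h).left := by
    rw [Over.comp_left]
    infer_instance
  have huh : IsImmersion (u ≫ h).left := by
    rw [Over.comp_left]
    infer_instance
  have hqh : QuasiCompact h.left := by
    have : QuasiCompact (h.left ≫ G.hom) := by
      rw [Over.w]
      infer_instance
    exact QuasiCompact.of_comp h.left G.hom
  have hlq : QuasiCompact (l ≫ h).left := by
    rw [Over.comp_left]
    infer_instance
  have huq : QuasiCompact (u ≫ h).left := by
    rw [Over.comp_left]
    infer_instance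
  have hl := hcl (l ≫ h) hlh hlq fun c hc => (key c hc).2.1
  refine ⟨⟨?_, d.smoothL, fun s => ?_⟩, hcl (u ≫ h) huh huq fun c hc => (key c hc).2.2⟩
  · rw [← Over.w (l ≫ h)]
    infer_instance
  · exact AlgBc.isReductive_iff.1 (key (Red.geomPt s) inferInstance).1

end K213.LocMain
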